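import Groth.Agent.Lib.StAlg16.DiagOps
import Groth.Agent.Lib.StAlg16.DiagIff
import Groth.Agent.Lib.StAlg16.UnivInj
import Groth.Agent.Lib.StAlg16.Topology
import Groth.Agent.Lib.StAlg16.LocPInst
import Groth.Agent.Lib.ProperSub15.Basic
import Groth.Agent.S13022

/-! Descent of separatedness along universally injective fppf morphisms. -/

universe u

open CategoryTheory CategoryTheory.Functor CategoryTheory.Limits AlgebraicGeometry Opposite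

set_option linter.style.haveILetI false
set_option linter.unusedSectionVars false
set_option backward.isDefEq.respectTransparency false
set_option backward.isDefEq.respectTransparency.types false

namespace Groth.Agent.SepDesc16

open Groth.Agent.FC16 hiding overMap
open Groth.Agent.StAlg Groth.Agent.StAlg16

variable {S : Scheme.{u}} {P P₁ P₂ : MorphismProperty (AlgSp.Sp S)} {𝒳 𝒴 𝒵 : AlgSt.Cat S}

/-- cancellation of the first factor -/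
theorem with_right_of_comp (hb : PbP P) (hP₁ : GoodP P₁) (hb₂ : PbP P₂)
    (hcancel : ∀ ⦃X Y Z : AlgSp.Sp S⦄, AlgSp.IsAlgSpace X → AlgSp.IsAlgSpace Y → AlgSp.IsAlgSpace Z →
      ∀ (a : X ⟶ Y) (b : Y ⟶ Z), P₁ a → P₂ b → P (a ≫ b) → P b)
    (h𝒳 : FibCat.IsFibGrpd 𝒳.p) (h𝒴 : FibCat.IsFibGrpd 𝒴.p) (h𝒵 : FibCat.IsFibGrpd 𝒵.p)
    {f : 𝒳 ⥤ᵇ 𝒴} {c : 𝒴 ⥤ᵇ 𝒵} (hf : AlgSt.RepByAlgSpWith P₁ f) (hc : AlgSt.RepByAlgSpWith P₂ c)
    (hfc : AlgSt.RepByAlgSpWith P (BasedFunctor.comp f c)) : AlgSt.RepByAlgSpWith P c := fun U y => by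
  have hU := AlgSp.IsAlgSpace.yon_obj U
  have hid : ∀ {F : AlgSp.PSp S} (a : F ⟶ ((AlgSp.yon S).obj U).obj), IsPullback (𝟙 F) a a (𝟙 _) := fun a =>
    IsPullback.of_horiz_isIso ⟨by simp⟩
  let y₁ : AlgSt.ofSch U ⥤ᵇ 𝒵 := BasedFunctor.comp (AlgSt.toOverCat U) y
  obtain ⟨G, a, e, he, ⟨i⟩, hra, hr⟩ := exists_rep_over h𝒴 h𝒵 (repByAlgSp1_of_with hc) y₁
  obtain ⟨hG, hGA⟩ := AlgSpace.isAlgSpaceP_of_repBySp a hra (AlgSpace.isAlgSpaceP_pyon U)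
  let u := BasedFunctor.comp e (FibCat.fpSnd y₁ c)
  obtain ⟨V, b, e₂, he₂, ⟨i₂⟩, hrb, hr₂⟩ := exists_rep_over h𝒳 h𝒴 (repByAlgSp1_of_with hf) u
  obtain ⟨hV, hVA⟩ := AlgSpace.isAlgSpaceP_of_repBySp b hrb ((AlgSp.isAlgSpaceP_obj_iff ⟨G, hG⟩).2 hGA)
  have hPa : P₂ (ObjectProperty.homMk a : (⟨G, hG⟩ : AlgSp.Sp S) ⟶ (AlgSp.yon S).obj U) :=
    (hr P₂ (preIso_of_pullback hb₂) hc (𝟙 _) _ _ (hid a)).2.2
  have hPb : P₁ (ObjectProperty.homMk b : (⟨V, hV⟩ : AlgSp.Sp S) ⟶ ⟨G, hG⟩) :=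
    hP₁.desc hVA hGA _ (hr₂ P₁ hP₁.preIso hf)
  haveI := idFun_full (𝒳 := 𝒴)
  haveI := idFun_faithful (𝒳 := 𝒴)
  let M := fpMap (F := u) (G := f) (F' := FibCat.fpSnd y₁ c) (G' := f) (a := e) (b := BasedFunctor.id 𝒳)
    (s := BasedFunctor.id 𝒴) (Iso.refl _) (Iso.refl _)
  have hM : FibCat.IsEquivOver M := fpMap_isEquivOver _ _ he isEquivOver_id
  let R := pasteR y₁ c f
  let E := BasedFunctor.comp (BasedFunctor.comp e₂ M) R
  have hE : FibCat.IsEquivOver E := isEquivOver_comp (isEquivOver_comp he₂ hM) (pasteR_isEquivOver y₁ c f)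
  let j : Stk.ofPshMap (b ≫ a) ≅ BasedFunctor.comp E (FibCat.fpFst y₁ (BasedFunctor.comp f c)) :=
    (isoMapOf (BasedFunctor.comp (Stk.ofPshMap b) (Stk.ofPshMap a)) ≪≫
      eqToIso (congrArg Stk.ofPshMap (by rw [mapOf_comp, mapOf_ofPshMap, mapOf_ofPshMap]))).symm ≪≫
      (wlIso (Stk.ofPshMap b) i.symm ≪≫ wrIso i₂.symm (BasedFunctor.comp e (FibCat.fpFst y₁ c)))
  have h1 : AlgSt.RepByAlgSpWith P (Stk.ofPshMap (b ≫ a)) :=
    (with_congr (f := FibCat.fpFst y₁ (BasedFunctor.comp f c)) (f' := Stk.ofPshMap (b ≫ a)) (a := E)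
      (b := BasedFunctor.id _) hE isEquivOver_id j).1 (with_fpFst _ hfc)
  have hPba : P ((ObjectProperty.homMk b : (⟨V, hV⟩ : AlgSp.Sp S) ⟶ ⟨G, hG⟩) ≫ ObjectProperty.homMk a) :=
    (repBySpWith_of_with (preIso_of_pullback hb) h1 (𝟙 _) _ _ (hid (b ≫ a))).2.2
  have hPa' : P (ObjectProperty.homMk a : (⟨G, hG⟩ : AlgSp.Sp S) ⟶ (AlgSp.yon S).obj U) :=
    hcancel hVA hGA hU _ _ hPb hPa hPba
  have h2 : AlgSt.RepByAlgSpWith P (FibCat.fpFst y₁ c) :=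
    (with_congr (f := FibCat.fpFst y₁ c) (f' := Stk.ofPshMap a) (a := e) (b := BasedFunctor.id _) he
      isEquivOver_id i.symm).2 (with_ofPshMap (repBySpWith_of_space hb hGA hU hPa'))
  let j' : y ≅ BasedFunctor.comp (AlgSt.ofOverCat U) y₁ := wrIso (eqToIso (ofOver_toOver U).symm) y
  exact repOf_left j' (repOf_of_equiv (pasteL_isEquivOver (AlgSt.ofOverCat U) y₁ c) (Iso.refl _)
    (h2 U (AlgSt.ofOverCat U)))

theorem isFppfCover_yon_family {U : Over S} {ι : Type u} {V : ι → Over S} {g : ∀ i, V i ⟶ U}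
    (h : (Presieve.ofArrows (fun i ↦ (V i).left) fun i ↦ (g i).left) ∈ Scheme.fppfPrecoverage U.left) :
    AlgSp.IsFppfCover (fun i => (AlgSp.yon S).obj (V i)) (fun i => (AlgSp.yon S).map (g i)) := by
  rw [Scheme.fppfPrecoverage_eq_inf] at h
  obtain ⟨h₁, h₂⟩ := h
  rw [Scheme.ofArrows_mem_precoverage_iff] at h₁ h₂
  refine ⟨fun i => ⟨(locP_yon_iff (g i)).2 (h₁.2 i), (locP_yon_iff (g i)).2 (h₂.2 i)⟩, fun x => ?_⟩
  obtain ⟨t, rfl⟩ := (AlgSp.Points.schemeHomeo U).surjective x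
  obtain ⟨i, s, rfl⟩ := h₁.1 t
  exact ⟨i, AlgSp.Points.schemeHomeo (V i) s, AlgSp.Points.map_yon_map_apply (g i) s⟩

/-- the comparison map along an fppf surjection detects properties of the diagonal -/
theorem with_diag_of_with_cmp (hb : PbP P) (hP : AlgSp.IsLocalOnBase AlgSp.IsFppfCover P)
    (h𝒳 : AlgSt.IsAlgStack Scheme.fppfPrecoverage 𝒳) (h𝒴 : AlgSt.IsAlgStack Scheme.fppfPrecoverage 𝒴)
    (h𝒵 : AlgSt.IsAlgStack Scheme.fppfPrecoverage 𝒵) {f : 𝒳 ⥤ᵇ 𝒴} {g : 𝒴 ⥤ᵇ 𝒵}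
    (hf₁ : AlgSt.IsSurjective f) (hf₂ : AlgSt.LocQ (AlgSp.LocP @Flat) f)
    (hf₃ : AlgSt.LocQ (AlgSp.LocP @LocallyOfFinitePresentation) f)
    (hQ : AlgSt.RepByAlgSpWith P (cmp f f g)) : AlgSt.RepByAlgSpWith P (FibCat.diag g) := by
  have hΔ := repByAlgSp1_of_with (lft_diag h𝒴 h𝒵 g)
  have hgg := FC16.fp_isFibGrpd h𝒴.isStack.1 h𝒴.isStack.1 h𝒵.isStack.1 g g
  have hlift := fun (T : Over S) (x : FibCat.overCat T ⥤ᵇ 𝒴) =>
    Groth.Agent.S13022.result S 𝒴 h𝒴 PUnit.{u + 1} (fun _ => 𝒳) (fun _ => h𝒳)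
      (fun _ => f) (fun _ => hf₂) (fun _ => hf₃) (fun p => ⟨PUnit.unit, hf₁ p⟩) T x
  intro U y
  obtain ⟨ι, V, k, -, hk, hV⟩ := hlift U (BasedFunctor.comp y (FibCat.fpFst g g))
  refine repOf_of_cover hb hP h𝒴.isStack.1 hgg hΔ y V k (isFppfCover_yon_family hk) fun i => ?_
  obtain ⟨x₁, ⟨a₁⟩⟩ := hV i
  let y' := BasedFunctor.comp (AlgSt.overMap (k i)) y
  obtain ⟨κ, W, l, -, hl, hW⟩ := hlift (V i) (BasedFunctor.comp y' (FibCat.fpSnd g g))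
  refine repOf_of_cover hb hP h𝒴.isStack.1 hgg hΔ y' W l (isFppfCover_yon_family hl) fun j => ?_
  obtain ⟨x₂, ⟨a₂⟩⟩ := hW j
  let z := BasedFunctor.comp (AlgSt.overMap (l j)) y'
  let b₁ : BasedFunctor.comp (BasedFunctor.comp (AlgSt.overMap (l j)) x₁) f ≅ BasedFunctor.comp z (FibCat.fpFst g g) :=
    wlIso (AlgSt.overMap (l j)) a₁
  let b₂ : BasedFunctor.comp x₂ f ≅ BasedFunctor.comp z (FibCat.fpSnd g g) := a₂
  let σ : FibCat.overCat (W j) ⥤ᵇ FibCat.fp (BasedFunctor.comp f g) (BasedFunctor.comp f g) :=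
    FibCat.fpLift (BasedFunctor.comp (AlgSt.overMap (l j)) x₁) x₂
      (wrIso b₁ g ≪≫ wlIso z (FibCat.fpIso g g) ≪≫ (wrIso b₂ g).symm)
  let F := FC16.pair (Iso.refl (BasedFunctor.comp f g)) (Iso.refl (BasedFunctor.comp f g))
  have h1 : AlgSt.RepByAlgSpWith P (FibCat.fpFst F (FibCat.diag g)) :=
    (with_cmp_iff (f := f) (g := f) (t := g) _ (fun _ => rfl)).2 hQ
  let e : z ≅ BasedFunctor.comp σ F := BasedNatIso.mkNatIso
    (NatIso.ofComponents (fun a => fpIsoMk (appIso b₁ a).symm (appIso b₂ a).symm (by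
      show g.map (b₁.inv.toNatTrans.app a) ≫ (𝟙 _ ≫ (g.map (b₁.hom.toNatTrans.app a) ≫ (z.obj a).obj.iso.hom ≫
        g.map (b₂.inv.toNatTrans.app a)) ≫ 𝟙 _) = (z.obj a).obj.iso.hom ≫ g.map (b₂.inv.toNatTrans.app a)
      have h : g.map (b₁.inv.toNatTrans.app a) ≫ g.map (b₁.hom.toNatTrans.app a) = 𝟙 _ := by
        exact ((g.toFunctor.map_comp _ _).symm.trans (congrArg g.map (appIso b₁ a).inv_hom_id)).trans
          (g.toFunctor.map_id _)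
      simp only [Category.id_comp, Category.comp_id]
      rw [← Category.assoc, h, Category.id_comp]))
      (fun {a c} φ => fp_hom_ext (b₁.inv.toNatTrans.naturality φ) (b₂.inv.toNatTrans.naturality φ)))
    (fun a => @isHomLift_of_fst _ _ _ _ _ _ _ _ _ _ _ _ _ (isHomLift_appIso_hom b₁.symm a rfl))
  exact repOf_left e (repOf_of_equiv (pasteL_isEquivOver σ F (FibCat.diag g)) (Iso.refl _) (h1 (W j) σ))

end Groth.Agent.SepDesc16
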